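import Cfsg.Agent.PGroups.QuasiDihedral
import Cfsg.Agent.PGroups.Basic
import Cfsg.Agent.TwoFusion.WreathedModel

/-!
Automorphisms of quasi-dihedral and wreathed groups act trivially modulo the Frattini subgroup.
-/

set_option autoImplicit false
set_option linter.unusedSectionVars false
set_option linter.style.haveILetI false

namespace Cfsg.Lib.CyclicZFactor

open Subgroup

universe u v

/-- Every automorphism is trivial modulo the Frattini subgroup. -/
def TrivAut (P : Type u) [Group P] : Prop := ∀ (β : MulAut P) (g : P), β g * g⁻¹ ∈ frattini P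

theorem frattini_apply {P : Type u} [Group P] (β : MulAut P) {g : P} (hg : g ∈ frattini P) : β g ∈ frattini P := by
  have h : (frattini P).map β.toMonoidHom = frattini P :=
    Subgroup.characteristic_iff_map_eq.1 (frattini_characteristic (G := P)) β
  exact h ▸ mem_map_of_mem _ hg

/-- It is enough to test generators. -/
theorem trivAut_of_gen {P : Type u} [Group P] {s : Set P} (hs : closure s = ⊤)
    (h : ∀ (β : MulAut P), ∀ g ∈ s, β g * g⁻¹ ∈ frattini P) : TrivAut P := by
  intro β g
  set π := QuotientGroup.mk' (frattini P)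
  have hle : closure s ≤ MonoidHom.eqLocus (π.comp β.toMonoidHom) π := by
    rw [closure_le]
    intro x hx
    show π (β x) = π x
    rw [← mul_inv_eq_one, ← map_inv, ← map_mul]
    exact (QuotientGroup.eq_one_iff _).2 (h β x hx)
  have h1 : π (β g) = π g := hle (hs ▸ mem_top g)
  rw [← mul_inv_eq_one, ← map_inv, ← map_mul] at h1
  exact (QuotientGroup.eq_one_iff _).1 h1

theorem trivAut_congr {P : Type u} {Q : Type v} [Group P] [Group Q] (e : P ≃* Q) (h : TrivAut P) : TrivAut Q := by
  intro β g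
  have h1 := h ((e.trans β).trans e.symm) (e.symm g)
  have h2 : frattini P ≤ (frattini Q).comap e.toMonoidHom :=
    frattini_le_comap_frattini_of_surjective e.surjective
  have h3 := h2 h1
  simpa using h3

variable {S : Type u} [Group S] [Finite S]

theorem trivAut_qd (hS : Cfsg.IsQuasiDihedral S) : TrivAut S := by
  haveI : Fact (Nat.Prime 2) := ⟨Nat.prime_two⟩
  obtain ⟨m, a, b, h⟩ := QD.exists_gen hS
  have hp : IsPGroup 2 S := QD.isPGroup h
  have h8 : 4 < 2 ^ m := (show (4 : ℕ) < 2 ^ 3 by norm_num).trans_le (Nat.pow_le_pow_right two_pos h.1)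
  have hgen : closure ({a, b} : Set S) = ⊤ := top_le_iff.1 fun g _ => by
    rcases CyclicMax.cases h.2 g with ⟨i, rfl⟩ | ⟨i, rfl⟩
    · exact zpow_mem (Subgroup.subset_closure (Set.mem_insert _ _)) i
    · exact mul_mem (zpow_mem (Subgroup.subset_closure (Set.mem_insert _ _)) i) (Subgroup.subset_closure (Set.mem_insert_of_mem _ rfl))
  have hsq : ∀ i : ℤ, Even i → a ^ i ∈ frattini S := by
    rintro _ ⟨d, rfl⟩
    rw [← two_mul, mul_comm, zpow_mul, zpow_ofNat]
    exact PGroups.pow_mem_frattini hp _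
  refine trivAut_of_gen hgen fun β g hg => ?_
  obtain ⟨i, hi⟩ : ∃ i : ℤ, β a = a ^ i := by
    rcases CyclicMax.cases h.2 (β a) with hc | ⟨i, hi⟩
    · exact hc
    · exfalso
      have ho : orderOf (β a) = 2 ^ m := by rw [MulEquiv.orderOf_eq, h.2.ord]
      rw [hi] at ho
      rcases (em ((2 : ℤ) ∣ i)) with hd | hd
      · rw [(QD.orderOf_b h i).1 hd] at ho; omega
      · rw [(QD.orderOf_b h i).2 hd] at ho; omega
  have hio : Odd i := by
    rw [← Int.not_even_iff_odd]
    rintro ⟨d, rfl⟩
    have h1 : β a ^ (2 ^ (m - 1) : ℕ) = 1 := by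
      rw [hi, ← zpow_natCast, ← zpow_mul, ← orderOf_dvd_iff_zpow_eq_one, h.2.ord]
      refine ⟨d, ?_⟩
      push_cast
      rw [(QD.pows h).1]
      ring
    rw [← map_pow, EmbeddingLike.map_eq_one_iff, ← orderOf_dvd_iff_pow_eq_one, h.2.ord,
      Nat.pow_dvd_pow_iff_le_right one_lt_two] at h1
    have := h.1
    omega
  rcases hg with rfl | rfl
  · rw [hi, ← zpow_sub_one]
    obtain ⟨d, rfl⟩ := hio
    exact hsq _ ⟨d, by ring⟩
  · have hβb : orderOf (β g) = 2 := by
      rw [MulEquiv.orderOf_eq]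
      simpa using (QD.orderOf_b h 0).1 (dvd_zero _)
    rcases QD.order_two_cases h hβb with hz | ⟨t, ht⟩
    · exfalso
      have h2 : β (a ^ ((2 : ℤ) ^ (m - 1))) = a ^ ((2 : ℤ) ^ (m - 1)) := by
        rw [map_zpow, hi, ← zpow_mul]
        refine (CyclicMax.zpow_eq_iff h.2 _ _).2 ?_
        obtain ⟨d, rfl⟩ := hio
        rw [(QD.pows h).1]
        exact ⟨-d, by ring⟩
      have h3 : g = a ^ ((2 : ℤ) ^ (m - 1)) := β.injective (hz.trans h2.symm)
      exact h.2.notMem (h3 ▸ zpow_mem (mem_zpowers a) _)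
    · rw [ht, mul_inv_cancel_right]
      exact hsq _ ⟨t, two_mul t⟩

section Wreathed

open Cfsg.Lib.Wreathed Cfsg.Lib.WreathedFusion

variable {n : ℕ}

theorem isPGroup_wr : IsPGroup 2 (Wr n) := IsPGroup.of_card Wr.card_eq

theorem base_even_mem {p : Wr n} (hp : p.e = false) {c : ZMod (2 ^ n)} (hc : p.a + p.b = c + c) :
    p ∈ frattini (Wr n) := by
  haveI : Fact (Nat.Prime 2) := ⟨Nat.prime_two⟩
  have h : p = (⟨p.b, 0, true⟩ : Wr n) ^ 2 * (⟨c - p.b, 0, false⟩ : Wr n) ^ 2 := by
    rcases p with ⟨a, b, e⟩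
    simp only at hp hc
    subst hp
    rw [pow_two, pow_two]
    have hadd : ∀ q : ZMod (2 ^ n), (b + (c - b) + q) = c + q := fun q => by ring
    ext
    · simp
      linear_combination hc
    · simp
    · simp
  rw [h]
  exact mul_mem (PGroups.pow_mem_frattini isPGroup_wr _) (PGroups.pow_mem_frattini isPGroup_wr _)

theorem trivAut_wr (hn : 2 ≤ n) : TrivAut (Wr n) := by
  haveI : Fact (Nat.Prime 2) := ⟨Nat.prime_two⟩
  set x : Wr n := ⟨1, 0, false⟩
  have ht2 : t0 n * t0 n = 1 := by ext <;> simp [t0]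
  have hxp : ∀ k : ℕ, x ^ k = ⟨(k : ZMod (2 ^ n)), 0, false⟩ := by
    intro k
    induction k with
    | zero => ext <;> simp
    | succ k ih => rw [pow_succ, ih]; ext <;> simp [x]
  have hgen : closure ({x, t0 n} : Set (Wr n)) = ⊤ := top_le_iff.1 fun p _ => by
    have hX : ∀ c : ZMod (2 ^ n), (⟨c, 0, false⟩ : Wr n) ∈ closure ({x, t0 n} : Set (Wr n)) := fun c => by
      rw [← ZMod.natCast_zmod_val c, ← hxp]
      exact pow_mem (Subgroup.subset_closure (Set.mem_insert _ _)) _
    have htm : t0 n ∈ closure ({x, t0 n} : Set (Wr n)) := Subgroup.subset_closure (Set.mem_insert_of_mem _ rfl)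
    have hp : p = (⟨p.a, 0, false⟩ : Wr n) * (t0 n * ⟨p.b, 0, false⟩ * t0 n) * (if p.e then t0 n else 1) := by
      rcases p with ⟨a, b, _ | _⟩ <;> ext <;> simp [t0]
    rw [hp]
    refine mul_mem (mul_mem (hX _) (mul_mem (mul_mem htm (hX _)) htm)) ?_
    split_ifs
    · exact htm
    · exact one_mem _
  refine trivAut_of_gen hgen fun β g hg => ?_
  have hbase : (base n).map β.toMonoidHom = base n := by
    refine existsUnique_abelian hn _ ⟨⟨?_⟩⟩ ?_
    · rintro ⟨_, p, hp, rfl⟩ ⟨_, q, hq, rfl⟩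
      refine Subtype.ext ?_
      show β p * β q = β q * β p
      rw [← map_mul, ← map_mul]
      exact congrArg β (congrArg Subtype.val (base_comm ⟨p, hp⟩ ⟨q, hq⟩))
    · rw [Subgroup.card_map_of_injective β.injective, base_card]
  have hmem : ∀ p : Wr n, p ∈ base n ↔ β p ∈ base n := fun p => by
    conv_rhs => rw [← hbase]
    exact (Subgroup.mem_map_iff_mem β.injective).symm
  have hte : (β (t0 n)).e = true := by
    by_contra hne
    have : t0 n ∈ base n := (hmem _).2 (by simpa [base] using hne)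
    simp [base, t0] at this
  have htt : (β (t0 n)).a + (β (t0 n)).b = 0 := by
    have h1 : β (t0 n) * β (t0 n) = 1 := by rw [← map_mul, ht2, map_one]
    rcases (mul_self_iff _).1 h1 with ⟨h, -⟩ | ⟨-, h⟩
    · simp [hte] at h
    · exact h
  rcases hg with rfl | rfl
  · have hxe : (β x).e = false := (hmem x).1 (show x.e = false from rfl)
    obtain ⟨k, hk⟩ := ZMod.intCast_surjective ((β x).a + (β x).b)
    rcases Int.even_or_odd k with ⟨d, rfl⟩ | ⟨d, rfl⟩
    · exfalso
      have h1 : β x ∈ frattini (Wr n) := base_even_mem hxe (c := (d : ZMod (2 ^ n))) (by rw [← hk]; push_cast; rfl)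
      have h2 : x ∈ frattini (Wr n) := by
        have := frattini_apply β⁻¹ h1
        simpa using this
      have h3 : zpowers (t0 n) ⊔ frattini (Wr n) = ⊤ := top_le_iff.1 (hgen ▸ (closure_le _).2 (by
        rintro q (rfl | rfl)
        · exact mem_sup_right h2
        · exact mem_sup_left (mem_zpowers _)))
      have h4 := frattini_nongenerating h3
      have h5 : Nat.card (Wr n) ≤ 2 := by
        rw [← Subgroup.card_top, ← h4, Nat.card_zpowers]
        exact orderOf_le_of_pow_eq_one two_pos (by rw [pow_two, ht2])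
      rw [Wr.card_eq] at h5
      have : 2 ^ 2 ≤ 2 ^ (2 * n + 1) := Nat.pow_le_pow_right two_pos (by omega)
      omega
    · refine base_even_mem (by simp [x, hxe]) (c := (d : ZMod (2 ^ n))) ?_
      push_cast at hk
      simp [x, hxe]
      linear_combination -hk
  · refine base_even_mem (by rw [Wr.mul_e, Wr.inv_e, hte]; rfl) (c := 0) ?_
    rw [Wr.mul_a, Wr.mul_b, Wr.inv_a, Wr.inv_b, hte]
    simpa [t0] using htt

theorem trivAut_wreathed (hS : Cfsg.IsWreathed S) : TrivAut S := by
  obtain ⟨n, hn, -, ⟨e⟩⟩ := Wreathed.exists_equiv hS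
  exact trivAut_congr e (trivAut_wr hn)

end Wreathed

end Cfsg.Lib.CyclicZFactor
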