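import Cfsg.Agent.CyclicZFactor.Tools
import Cfsg.Agent.CyclicZFactor.Rank3.Build
import Cfsg.Agent.CyclicZFactor.RankTwo.FrattiniAction
import Cfsg.Agent.Fusion.RankTwoCenter.GroupForm
import Cfsg.Agent.TwoFusion.NoIndexTwoSimple
import Cfsg.Agent.Walter.Main
import Cfsg.Agent.Walter.Consumers.Types
import Cfsg.Agent.S0204
import Cfsg.Agent.S1203

/-!
The Sylow 2-subgroup of `N` is dihedral.
-/

set_option autoImplicit false
set_option linter.unusedSectionVars false
set_option linter.style.haveILetI false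

namespace Cfsg.Lib.CyclicZFactor

open Subgroup

universe u

section OneClass

variable {X : Type u} [Group X] [Finite X]

open Cfsg.Lib.QDFusion in
theorem qd_one_class (S : Sylow 2 X) (hS : Cfsg.IsQuasiDihedral (S : Subgroup X))
    (hG : ∀ H : Subgroup X, H.index ≠ 2) :
    ∀ x y : X, orderOf x = 2 → orderOf y = 2 → IsConj x y := by
  obtain ⟨T, Q, hT, hTS, hQS, ⟨eQ⟩⟩ := Cfsg.Lib.QGroupCentralizer.exists_TQ S hS
  obtain ⟨D⟩ := exists_data hS hT hTS hQS eQ
  have h6 : (centralizer (T : Set X)).relIndex (normalizer (T : Set X)) = 6 :=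
    (Cfsg.Agent.S1203.result S hS T hT hTS Q hQS eQ).1.resolve_left fun h => by
      obtain ⟨M, -, hM, -⟩ := D.exists_index_two_t hS h
      exact hG M hM
  have hz : ∀ x : X, orderOf x = 2 → IsConj x D.z := fun x hx =>
    (D.inv_class hx).elim id fun h => h.trans (D.isConj_t_z h6)
  exact fun x y hx hy => (hz x hx).trans (hz y hy).symm

open Cfsg.Lib.Wreathed Cfsg.Lib.WreathedFusion in
theorem wreathed_one_class (S : Sylow 2 X) (hS : Cfsg.IsWreathed (S : Subgroup X))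
    (hG : ∀ H : Subgroup X, H.index ≠ 2) :
    ∀ x y : X, orderOf x = 2 → orderOf y = 2 → IsConj x y := by
  obtain ⟨n, hn, -, ⟨e⟩⟩ := exists_equiv hS
  obtain ⟨h₁, h₂⟩ := six_six_of_no_index_two S e hn hG
  have hz : ∀ x : X, orderOf x = 2 → IsConj x (emb S e (zed n)) := fun x hx => by
    rcases involution_classes S e hn hx with h | h | h
    · exact h
    · exact h.trans (six_U S e hn h₁).1.symm
    · exact h.trans ((conj_ut_of_six S e hn h₂).symm.trans (six_U S e hn h₁).1.symm)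
  exact fun x y hx hy => (hz x hx).trans (hz y hy).symm

theorem not_cyclic_qd {S : Type u} [Group S] (hS : Cfsg.IsQuasiDihedral S) : ¬ IsCyclic S := by
  intro h
  letI : CommGroup S := IsCyclic.commGroup
  obtain ⟨n, hn, -, x, y, hx, -, hrel⟩ := hS
  rw [mul_comm y x, mul_inv_cancel_right] at hrel
  have h1 : x ^ (2 ^ (n - 1) - 2) = 1 := by
    have h4 : 2 ^ 2 ≤ 2 ^ (n - 1) := Nat.pow_le_pow_right two_pos (by omega)
    rw [show 2 ^ (n - 1) - 1 = (2 ^ (n - 1) - 2) + 1 by omega, pow_succ] at hrel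
    exact mul_eq_right.1 hrel.symm
  have h2 := orderOf_dvd_of_pow_eq_one h1
  rw [hx] at h2
  have h4 : 2 ^ 2 ≤ 2 ^ (n - 1) := Nat.pow_le_pow_right two_pos (by omega)
  have h5 : 2 ^ (n - 1) ≤ 2 ^ n := Nat.pow_le_pow_right two_pos (by omega)
  have := Nat.le_of_dvd (by omega) h2
  omega

theorem not_cyclic_wreathed {S : Type u} [Group S] (hS : Cfsg.IsWreathed S) : ¬ IsCyclic S := by
  intro h
  letI : CommGroup S := IsCyclic.commGroup
  obtain ⟨n, hn, -, x, y, z, hx, -, hd, -, hrel⟩ := hS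
  rw [mul_comm z x, mul_inv_cancel_right] at hrel
  rw [← hrel, inf_idem, zpowers_eq_bot] at hd
  rw [hd, orderOf_one] at hx
  have : 2 ^ 2 ≤ 2 ^ n := Nat.pow_le_pow_right two_pos hn
  omega

end OneClass

variable {G : Type u} [Group G] [Finite G] {N A B : Subgroup G}

/-- A nontrivial 2-element has an involution among its powers. -/
theorem exists_involution_pow {x : G} {k : ℕ} (hk : orderOf x = 2 ^ k) (hx : x ≠ 1) :
    orderOf (x ^ (2 ^ (k - 1))) = 2 := by
  obtain ⟨j, rfl⟩ : ∃ j, k = j + 1 := ⟨k - 1, by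
    rcases k with _ | k
    · exact absurd (orderOf_eq_one_iff.1 (by rw [hk, pow_zero])) hx
    · rfl⟩
  rw [Nat.add_sub_cancel, orderOf_pow' _ (by positivity), hk, Nat.gcd_eq_right (pow_dvd_pow 2 (by omega)),
    Nat.pow_div (by omega) two_pos]
  simp

theorem no_index_two (F : Fac N A B) (H : Subgroup ↥N) : H.index ≠ 2 := by
  intro h
  haveI := F.simple
  haveI := normal_of_index_eq_two h
  rcases IsSimpleGroup.eq_bot_or_eq_top_of_normal H inferInstance with hb | ht
  · rw [hb, index_bot] at h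
    haveI : IsCyclic ↥N := by
      haveI : Fact (Nat.Prime 2) := ⟨Nat.prime_two⟩
      exact isCyclic_of_prime_card h
    exact F.nonab inferInstance
  · rw [ht, index_top] at h
    omega

/-- A metacyclic group of exponent dividing four has order at most sixteen. -/
theorem meta_card_le_sixteen {H : Type u} [Group H] [Finite H] (h : Cfsg.IsMetacyclic H)
    (hsq : ∀ s : H, s ^ 4 = 1) : Nat.card H ≤ 16 := by
  obtain ⟨K, hn, hc, hq⟩ := h
  have key : ∀ (Z : Type u) [Group Z], IsCyclic Z → (∀ s : Z, s ^ 4 = 1) → Nat.card Z ≤ 4 := by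
    intro Z _ hZ hs
    obtain ⟨g, hg⟩ := hZ.exists_ofOrder_eq_natCard
    rw [← hg]
    exact orderOf_le_of_pow_eq_one (by norm_num) (hs g)
  have h1 := key K hc fun s => Subtype.ext (hsq s)
  have h2 := key (H ⧸ K) hq fun q => by
    obtain ⟨s, rfl⟩ := QuotientGroup.mk_surjective q
    rw [← QuotientGroup.mk_pow, hsq, QuotientGroup.mk_one]
  rw [card_eq_card_quotient_mul_card_subgroup K]
  exact Nat.mul_le_mul h2 h1

namespace Sys

variable (Y : Sys N A B)

/-- The Sylow 2-subgroup of `N` inside that of `G`. -/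
def LT : Subgroup ↥(Y.S : Subgroup G) := N.subgroupOf (Y.S : Subgroup G)

instance LT_normal : Y.LT.Normal :=
  haveI := Y.fac.normal
  inferInstanceAs (N.subgroupOf (Y.S : Subgroup G)).Normal

include Y in
theorem exists_equiv_LT (P : Sylow 2 ↥N) : Nonempty (↥(P : Subgroup ↥N) ≃* ↥Y.LT) := by
  haveI : Fact (Nat.Prime 2) := ⟨Nat.prime_two⟩
  obtain ⟨P₀, f, -⟩ := Y.exists_sylowN_equiv
  exact ⟨((P.equiv P₀).trans f).trans
    { toFun := fun x => ⟨⟨x, x.2.1⟩, x.2.2⟩
      invFun := fun x => ⟨x, x.1.2, x.2⟩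
      left_inv := fun _ => rfl
      right_inv := fun _ => rfl
      map_mul' := fun _ _ => rfl }⟩

include Y in
/-- With trivial action modulo the Frattini subgroup there are two classes of involutions. -/
theorem false_of_trivAut (P : Sylow 2 ↥N) (hT : TrivAut ↥(P : Subgroup ↥N))
    (hnc : ¬ IsCyclic ↥(P : Subgroup ↥N))
    (hone : ∀ x y : ↥N, orderOf x = 2 → orderOf y = 2 → IsConj x y) : False := by
  haveI : Fact (Nat.Prime 2) := ⟨Nat.prime_two⟩
  haveI := Y.fac.normal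
  obtain ⟨f⟩ := Y.exists_equiv_LT P
  have hT' := trivAut_congr f hT
  have hnc' : ¬ IsCyclic ↥Y.LT := fun h => hnc (isCyclic_of_surjective f.symm f.symm.surjective)
  have hp : IsPGroup 2 ↥Y.LT := Y.S.2.to_subgroup _
  set Φ : Subgroup ↥(Y.S : Subgroup G) := (frattini ↥Y.LT).map Y.LT.subtype with hΦ
  have hΦn : Φ.Normal := inferInstance
  let π := QuotientGroup.mk' Φ
  have hπ1 : ∀ l : ↥Y.LT, l ∈ frattini ↥Y.LT → π l = 1 := fun l hl =>
    (QuotientGroup.eq_one_iff _).2 ⟨l, hl, rfl⟩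
  obtain ⟨l, hl, m, hm, ham⟩ := Y.a_decomp
  set aT : ↥(Y.S : Subgroup G) := ⟨Y.a, Y.aS⟩
  set bT : ↥(Y.S : Subgroup G) := ⟨Y.b, Y.bS⟩
  set lL : ↥Y.LT := ⟨⟨l, hl.1⟩, hl.2⟩
  set x := π (lL : ↥(Y.S : Subgroup G))
  set y := π bT
  have hcom : Commute y x := by
    have h := hπ1 _ (hT' (MulAut.conjNormal bT) lL)
    have he : ((MulAut.conjNormal bT lL * lL⁻¹ : ↥Y.LT) : ↥(Y.S : Subgroup G)) = bT * lL * bT⁻¹ * (lL : ↥(Y.S : Subgroup G))⁻¹ := by
      simp [MulAut.conjNormal_apply]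
    rw [he, map_mul, map_mul, map_mul, map_inv, map_inv, mul_inv_eq_one, mul_inv_eq_iff_eq_mul] at h
    exact h
  have hx2 : x ^ 2 = 1 := by
    have h := hπ1 _ (PGroups.pow_mem_frattini hp lL)
    rwa [Subgroup.coe_pow, map_pow] at h
  have ha : π aT = x * y ^ m := by
    rw [show aT = (lL : ↥(Y.S : Subgroup G)) * bT ^ m from Subtype.ext (by simpa using ham), map_mul, map_zpow]
  -- membership in `N`
  let ν := QuotientGroup.mk' N
  have hνl : ν l = 1 := (QuotientGroup.eq_one_iff l).2 hl.2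
  have hdiv : ∀ i k : ℤ, Y.a ^ i * Y.b ^ k ∈ N → (Y.e : ℤ) ∣ m * i + k := fun i k h => by
    rw [← Y.zpow_mem_iff]
    have h1 : ν (Y.a ^ i * Y.b ^ k) = 1 := (QuotientGroup.eq_one_iff _).2 h
    rw [map_mul, map_zpow, map_zpow, ham, map_mul, map_zpow, hνl, one_mul, ← zpow_mul, ← zpow_add,
      ← map_zpow] at h1
    exact (QuotientGroup.eq_one_iff _).1 h1
  have hgen : ∀ w : ↥Y.LT, ∃ (i t : ℤ), π w = x ^ i * (y ^ Y.e) ^ t := fun w => by
    obtain ⟨i, k, hik⟩ := Y.bicyclic_gen (w : ↥(Y.S : Subgroup G))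
    have hik' : ((w : ↥(Y.S : Subgroup G)) : G) = Y.a ^ i * Y.b ^ k := by rw [hik]; simp
    obtain ⟨t, ht⟩ := hdiv i k (hik' ▸ w.2)
    refine ⟨i, t, ?_⟩
    rw [hik, map_mul, map_zpow, map_zpow, ha, (hcom.zpow_left m).symm.mul_zpow, mul_assoc, ← zpow_mul,
      ← zpow_add, ht, zpow_mul, zpow_natCast]
  -- `b ^ e` is outside the Frattini subgroup
  have hye : y ^ Y.e ≠ 1 := by
    intro h1
    have hcov : zpowers lL ⊔ frattini ↥Y.LT = ⊤ := top_le_iff.1 fun w _ => by
      obtain ⟨i, t, hw⟩ := hgen w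
      rw [h1, one_zpow, mul_one, ← map_zpow] at hw
      obtain ⟨q, hq, hq'⟩ := QuotientGroup.eq.1 hw.symm
      have : w = lL ^ i * q := Subtype.ext (by
        rw [Subgroup.coe_mul, Subgroup.coe_zpow, show ((q : ↥Y.LT) : ↥(Y.S : Subgroup G)) = _ from hq',
          mul_inv_cancel_left])
      rw [this]
      exact mul_mem_sup (zpow_mem (mem_zpowers _) i) hq
    have h2 := frattini_nongenerating hcov
    exact hnc' ⟨⟨lL, fun w => mem_zpowers_iff.1 (h2 ▸ mem_top w)⟩⟩
  obtain ⟨d, hd⟩ := Y.e_even.two_dvd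
  have hbeT : (⟨bT ^ Y.e, by show Y.b ^ Y.e ∈ N; exact Y.pow_e_mem⟩ : ↥Y.LT) ^ 2 ∈ frattini ↥Y.LT :=
    PGroups.pow_mem_frattini hp _
  have hye2 : (y ^ Y.e) ^ 2 = 1 := by
    have h := hπ1 _ hbeT
    rwa [Subgroup.coe_pow, map_pow, map_pow] at h
  have hae : (π aT) ^ Y.e = y ^ Y.e := by
    rw [ha, (hcom.zpow_left m).symm.mul_pow, show x ^ Y.e = 1 by rw [hd, pow_mul, hx2, one_pow], one_mul,
      ← zpow_natCast (y ^ m), ← zpow_mul, mul_comm m, zpow_mul, zpow_natCast]
    obtain ⟨c, rfl⟩ := hm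
    rw [zpow_add, zpow_mul, zpow_ofNat, hye2, one_zpow, one_mul, zpow_one]
  -- involutions in the two factors
  have hbe1 : Y.b ^ Y.e ≠ 1 := fun h => hye (by
    rw [← map_pow, show bT ^ Y.e = 1 from Subtype.ext (by simpa [bT] using h), map_one])
  have hae1 : Y.a ^ Y.e ≠ 1 := fun h => hye (by
    rw [← hae, ← map_pow, show aT ^ Y.e = 1 from Subtype.ext (by simpa [aT] using h), map_one])
  have haeN : Y.a ^ Y.e ∈ N := by
    rw [← QuotientGroup.eq_one_iff]
    show ν (Y.a ^ Y.e) = 1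
    rw [ham, map_pow, map_mul, map_zpow, hνl, one_mul, ← zpow_natCast, ← zpow_mul, mul_comm, zpow_mul,
      zpow_natCast, ← map_pow, show ν (Y.b ^ Y.e) = 1 from (QuotientGroup.eq_one_iff _).2 Y.pow_e_mem, one_zpow]
  have hord : ∀ s ∈ (Y.S : Subgroup G), ∃ k, orderOf s = 2 ^ k := fun s hs => by
    obtain ⟨k, hk⟩ := IsPGroup.iff_orderOf.1 Y.S.2 ⟨s, hs⟩
    exact ⟨k, by rwa [Subgroup.orderOf_mk] at hk⟩
  obtain ⟨k, hk⟩ := hord _ (pow_mem Y.aS Y.e)
  obtain ⟨k', hk'⟩ := hord _ (pow_mem Y.bS Y.e)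
  have hv := exists_involution_pow hk hae1
  have hu := exists_involution_pow hk' hbe1
  have hc := hone ⟨_, pow_mem haeN _⟩ ⟨_, pow_mem Y.pow_e_mem _⟩ (by rw [Subgroup.orderOf_mk, hv])
    (by rw [Subgroup.orderOf_mk, hu])
  refine Y.fac.not_conj (pow_mem (pow_mem Y.aA _) _) ?_ (pow_mem (pow_mem Y.bB _) _) (N.subtype.map_isConj hc)
  intro h
  rw [h, orderOf_one] at hv
  omega

include Y in
/-- The group of order 64 does not occur. -/
theorem false_of_exponent_four (P : Sylow 2 ↥N) (h64 : Nat.card (P : Subgroup ↥N) = 64)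
    (h4 : ∀ v : ↥(P : Subgroup ↥N), v ^ 4 = 1) : False := by
  haveI : Fact (Nat.Prime 2) := ⟨Nat.prime_two⟩
  obtain ⟨f⟩ := Y.exists_equiv_LT P
  have hc : Nat.card Y.LT = 64 := by rw [← Nat.card_congr f.toEquiv, h64]
  have h4' : ∀ v : ↥Y.LT, v ^ 4 = 1 := fun v => by
    have := congrArg f (h4 (f.symm v))
    simpa using this
  set T := ↥(Y.S : Subgroup G)
  set aT : T := ⟨Y.a, Y.aS⟩
  set bT : T := ⟨Y.b, Y.bS⟩
  have hgen : Bicyclic.Gen aT bT := Y.bicyclic_gen
  let φ : ↥Y.LT →* T ⧸ frattini T := (QuotientGroup.mk' (frattini T)).comp Y.LT.subtype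
  have hsq : ∀ q : T ⧸ frattini T, q ^ 2 = 1 := PGroups.pow_prime_quotient_frattini Y.S.2
  set c : T ⧸ frattini T := ↑(aT * bT)
  have hrange : φ.range ≤ zpowers c := by
    rintro _ ⟨w, rfl⟩
    obtain ⟨i, k, hik⟩ := hgen (w : T)
    have hev : Even (i + k) := by
      have h : Y.ε ((w : T) : G) = 1 := Y.εN _ w.2
      rw [show ((w : T) : G) = Y.a ^ i * Y.b ^ k by rw [hik]; rfl, map_mul, map_zpow, map_zpow,
        Y.εa, Y.εb, ← zpow_add, neg_one_zpow_unit] at h
      exact h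
    refine mem_zpowers_iff.2 ⟨i, ?_⟩
    show c ^ i = ((w : T) : T ⧸ frattini T)
    haveI := PGroups.isMulCommutative_quotient_frattini Y.S.2
    rw [hik, QuotientGroup.mk_mul, QuotientGroup.mk_zpow, QuotientGroup.mk_zpow]
    show (((aT * bT : T) : T ⧸ frattini T)) ^ i = _
    rw [QuotientGroup.mk_mul, (show Commute (aT : T ⧸ frattini T) bT from mul_comm' _ _).mul_zpow]
    congr 1
    obtain ⟨t, ht⟩ := hev
    rw [show k = -i + (t + t) by omega, zpow_add, zpow_add (bT : T ⧸ frattini T) t t, ← sq, ← zpow_natCast,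
      ← zpow_mul, mul_comm, zpow_mul, zpow_natCast, hsq, one_zpow, mul_one, zpow_neg]
    refine eq_inv_of_mul_eq_one_left ?_
    rw [← zpow_add, ← two_mul, zpow_mul, zpow_ofNat, hsq, one_zpow]
  have h1 : Nat.card φ.range ≤ 2 := by
    refine (Nat.card_le_card_of_injective _ (Subgroup.inclusion_injective hrange)).trans ?_
    rw [Nat.card_zpowers]
    exact orderOf_le_of_pow_eq_one two_pos (hsq c)
  have h2 : Nat.card φ.ker ≤ 16 := by
    refine le_trans ?_ (meta_card_le_sixteen (hgen.sub_meta Y.S.2 (H := Y.LT ⊓ frattini T) inf_le_right)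
      fun s => Subtype.ext (by
        have := congrArg Subtype.val (h4' ⟨s.1, s.2.1⟩)
        simpa only [Subgroup.coe_pow, OneMemClass.coe_one] using this))
    refine Nat.card_le_card_of_injective
      (fun v => ⟨v.1.1, v.1.2, (QuotientGroup.eq_one_iff _).1 v.2⟩) fun v w h => ?_
    exact Subtype.ext (Subtype.ext (congrArg Subtype.val h :))
  have h3 := φ.ker.card_mul_index
  rw [Subgroup.index_ker, hc] at h3
  have := Nat.mul_le_mul h2 h1
  omega

include Y in
/-- **The Sylow 2-subgroup of `N` is dihedral.** -/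
theorem dihedral : ∃ (P : Sylow 2 ↥N) (m : ℕ), 2 ≤ m ∧ Nonempty (↥(P : Subgroup ↥N) ≃* DihedralGroup m) := by
  haveI : Fact (Nat.Prime 2) := ⟨Nat.prime_two⟩
  haveI := Y.fac.simple
  obtain ⟨P, hP⟩ := Y.exists_sylowN
  have hr : ¬ Cfsg.PRankAtLeast 2 3 (P : Subgroup ↥N) := by
    rintro ⟨D, -, he, hc⟩
    have h := Y.rank_le_two ((D.map (P : Subgroup ↥N).subtype).map N.subtype)
      (hP ▸ map_mono (map_subtype_le D)) (by
        rintro _ ⟨_, ⟨d, hd, rfl⟩, rfl⟩
        rw [← map_pow, ← map_pow, he d hd, map_one, map_one])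
    rw [card_map_of_injective N.subtype_injective, card_map_of_injective (P : Subgroup ↥N).subtype_injective] at h
    omega
  have hr2 : Cfsg.PRankAtLeast 2 2 (P : Subgroup ↥N) := by
    obtain ⟨E, hE⟩ := Cfsg.Agent.S0204.result (G := ↥N) fun h => Y.fac.nonab inferInstance
    have hEp : IsPGroup 2 E := IsPGroup.of_card (n := 2) (by rw [IsKleinFour.card_four]; rfl)
    obtain ⟨g, hg⟩ := Fusion.exists_conj_le_sylow P hEp
    have hle : E.map (MulAut.conj g).toMonoidHom ≤ (P : Subgroup ↥N) := by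
      rintro _ ⟨a, ha, rfl⟩; exact hg a ha
    haveI : IsMulCommutative E := ⟨⟨fun a b => by
      have h : ∀ c : E, c * c = 1 := fun c => IsKleinFour.mul_self c
      calc a * b = (a * b)⁻¹ := eq_inv_of_mul_eq_one_left (h _)
        _ = b * a := by rw [mul_inv_rev, inv_eq_of_mul_eq_one_left (h a), inv_eq_of_mul_eq_one_left (h b)]⟩⟩
    refine ⟨(E.map (MulAut.conj g).toMonoidHom).subgroupOf P, inferInstance, ?_, ?_⟩
    · rintro ⟨_, hx⟩ ⟨a, ha, rfl⟩
      apply Subtype.ext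
      show (MulAut.conj g a) ^ 2 = 1
      rw [← map_pow, show a ^ 2 = 1 by
        simpa [sq] using congrArg Subtype.val (IsKleinFour.mul_self (⟨a, ha⟩ : E)), map_one]
    · rw [Nat.card_congr (subgroupOfEquivOfLe hle).toEquiv, card_map_of_injective (MulAut.conj g).injective,
        IsKleinFour.card_four]
      norm_num
  rcases RankTwoCenter.shape P.isPGroup' (Fusion.saturated_group P) hr2 hr
      (RankTwoCenter.center_eq_bot_of_not_isolated P Y.not_isolated) with
    ⟨m, hm, h⟩ | h | h | ⟨hle2, hle1, φ, ht⟩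
  · exact ⟨P, m, by omega, h⟩
  · exact (Y.false_of_trivAut P (trivAut_qd h) (not_cyclic_qd h)
      (qd_one_class P h (no_index_two Y.fac))).elim
  · exact (Y.false_of_trivAut P (trivAut_wreathed h) (not_cyclic_wreathed h)
      (wreathed_one_class P h (no_index_two Y.fac))).elim
  rcases RankTwoTrans.classify P.isPGroup' hle2 hle1 φ ht with ⟨n, hn, ⟨e⟩⟩ | ⟨⟨R⟩⟩
  swap
  · obtain ⟨h64, h4, -, -⟩ := RankTwoCenter.rels_facts R
    exact (Y.false_of_exponent_four P h64 fun v => by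
      rw [show 4 = 2 * 2 from rfl, pow_mul, sq, sq]; exact h4 v).elim
  rcases Nat.eq_or_lt_of_le hn with rfl | hn
  · haveI : IsKleinFour (P : Subgroup ↥N) := by
      refine ⟨?_, ?_⟩
      · rw [Nat.card_congr e.toEquiv, Nat.card_congr Multiplicative.toAdd, Nat.card_prod, Nat.card_zmod]
        norm_num
      · rw [Monoid.exponent_eq_of_mulEquiv e]
        exact IsKleinFour.exponent_two (G := Multiplicative (ZMod 2 × ZMod 2))
    exact ⟨P, 2, le_rfl, IsKleinFour.nonempty_mulEquiv⟩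
  exfalso
  haveI : IsMulCommutative (P : Subgroup ↥N) := ⟨⟨fun a b => e.injective (by rw [map_mul, map_mul, mul_comm])⟩⟩
  have h1 := Walter.Consumers.elemProp_of_walter Walter.walterProp ↥N Y.fac.nonab P inferInstance
    _ (e.symm (Multiplicative.ofAdd ((1 : ZMod (2 ^ n)), (0 : ZMod (2 ^ n))))).2
  have h2 : e.symm (Multiplicative.ofAdd ((1 : ZMod (2 ^ n)), (0 : ZMod (2 ^ n)))) *
      e.symm (Multiplicative.ofAdd ((1 : ZMod (2 ^ n)), (0 : ZMod (2 ^ n)))) = 1 := Subtype.ext h1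
  rw [← map_mul, EmbeddingLike.map_eq_one_iff, ← ofAdd_add, ofAdd_eq_one] at h2
  have h3 : ((2 : ℕ) : ZMod (2 ^ n)) = 0 := by
    have := congrArg Prod.fst h2
    simpa [one_add_one_eq_two] using this
  rw [ZMod.natCast_eq_zero_iff] at h3
  have := Nat.le_of_dvd two_pos h3
  have : 2 ^ 2 ≤ 2 ^ n := Nat.pow_le_pow_right two_pos hn
  omega

end Sys

end Cfsg.Lib.CyclicZFactor
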